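import Groth.Agent.GabAcyc.Affine
import Groth.Agent.EtPBC.AllBC
import Groth.Agent.EtColimH.PTorsion
import Groth.Agent.S0157
import Groth.Agent.S0168
import Groth.Agent.EtLimit.Push
import Groth.Agent.EtH0Pair.Main

/-!
# Proper base change over henselian pairs, for closed subschemes with the underlying set of the special fibre
-/

set_option autoImplicit false
set_option backward.isDefEq.respectTransparency false
set_option backward.isDefEq.respectTransparency.types false
set_option linter.style.haveILetI false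
set_option linter.auxLemma false

universe u

open CategoryTheory CategoryTheory.Limits CategoryTheory.Abelian AlgebraicGeometry Opposite

noncomputable section

namespace Groth.Agent.HensCouple

attribute [local instance 100000] EtCoh.H._proof_1 EtMV.hext
attribute [local instance 200000] EtMV.hextAb

variable {A : Type u} [CommRing A] (I : Ideal A) [HenselianRing A I]

theorem range_mk :
    Set.range (Spec.map (CommRingCat.ofHom (Ideal.Quotient.mk I))) = PrimeSpectrum.zeroLocus (I : Set A) := by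
  refine (range_comap_of_surjective _ _ Ideal.Quotient.mk_surjective).trans ?_
  rw [Ideal.mk_ker]

/-- sections are determined on closed subschemes with the support of the special fibre -/
theorem bijective_unit_zero {X Z : Scheme.{u}} (g : X ⟶ Spec (CommRingCat.of A)) [IsProper g] (i : Z ⟶ X)
    [IsClosedImmersion i] (hi : Set.range i = g ⁻¹' PrimeSpectrum.zeroLocus (I : Set A)) (F : EtCoh.Ab X) :
    Function.Bijective (((EtCoh.pullPushAdj i).unit.app F).hom.app (op (EtCoh.top X))) := by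
  haveI : CompactSpace X := QuasiCompact.compactSpace_of_compactSpace g
  haveI : QuasiSeparatedSpace X := quasiSeparatedSpace_of_quasiSeparated g
  refine EtH0Pair.bijective_unitSec i ?_ (fun Y π hπ F' => ?_) F
  · have hr : Set.range i = Set.range (pullback.fst g (Spec.map (CommRingCat.ofHom (Ideal.Quotient.mk I)))) := by
      rw [Scheme.Pullback.range_fst, range_mk, hi]
    exact fun F' => hr ▸ Groth.Agent.S0168.result A I X g F'
  · have hr : Set.range (pullback.snd i π) =
        Set.range (pullback.fst (π ≫ g) (Spec.map (CommRingCat.ofHom (Ideal.Quotient.mk I)))) := by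
      rw [Scheme.Pullback.range_fst, Scheme.Pullback.range_snd, range_mk, hi]
      ext x
      simp
    exact hr ▸ Groth.Agent.S0168.result A I Y (π ≫ g) F'

theorem exponents_pos : EtColimH.Exponents (fun m : ℕ => 0 < m) := ⟨id, one_pos, Nat.mul_pos⟩

/-- torsion sheaves embed into torsion sheaves without higher cohomology -/
theorem exists_hull {X : Scheme.{u}} (F : EtCoh.Ab X) (hF : EtCoh.IsTorsion F) :
    ∃ (M : EtCoh.Ab X) (j : F ⟶ M), Mono j ∧ EtColimH.CAc M ∧ EtCoh.IsTorsion M := by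
  obtain ⟨M, j, hj, hc, hM⟩ := EtColimH.exists_acyclic_hull exponents_pos (F := F) fun U s x => by
    obtain ⟨V, g, hv, hfin⟩ := hF U s x
    obtain ⟨m, hm, hs⟩ := isOfFinAddOrder_iff_nsmul_eq_zero.1 hfin
    exact ⟨V, g, m, hv, hm, hs⟩
  refine ⟨M, j, hj, hc, fun U s x => ?_⟩
  obtain ⟨V, g, m, hv, hm, hs⟩ := hM U s x
  exact ⟨V, g, hv, isOfFinAddOrder_iff_nsmul_eq_zero.2 ⟨m, hm, hs⟩⟩

theorem subsingleton_H_of_cac {X : Scheme.{u}} [CompactSpace X] [QuasiSeparatedSpace X] {M : EtCoh.Ab X}
    (hM : EtColimH.CAc M) (q : ℕ) : Subsingleton (EtCoh.H X M (q + 1)) :=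
  EtColimH.subsingleton_ext_of_cac (W := EtCoh.top X) ⟨‹_›, ‹_›⟩ _ (EtColimH.constEquiv X) (fun _ _ => rfl) q M hM

/-- proper base change over a henselian pair -/
theorem bijective_H_unit_proper {X X₀ Z : Scheme.{u}} (g : X ⟶ Spec (CommRingCat.of A)) [IsProper g]
    (i' : Z ⟶ Spec (CommRingCat.of A)) [IsClosedImmersion i']
    (hi' : Set.range i' = PrimeSpectrum.zeroLocus (I : Set A)) (i : X₀ ⟶ X) [IsClosedImmersion i] (g₀ : X₀ ⟶ Z)
    (sq : IsPullback i g₀ g i') (F : EtCoh.Ab X) (hF : EtCoh.IsTorsion F) (q : ℕ) :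
    Function.Bijective (Sheaf.H.map ((EtCoh.pullPushAdj i).unit.app F) q) := by
  haveI : CompactSpace X := QuasiCompact.compactSpace_of_compactSpace g
  haveI : QuasiSeparatedSpace X := quasiSeparatedSpace_of_quasiSeparated g
  haveI : IsProper g₀ := MorphismProperty.of_isPullback (P := @IsProper) sq ‹_›
  haveI := EtPullExact.pull_preservesFiniteLimits i
  haveI : PreservesFiniteColimits (EtCoh.push i) := EtIntegral.push_preservesFiniteColimits i
  haveI : PreservesLimitsOfSize.{0, 0} (EtCoh.push i) := (EtCoh.pullPushAdj i).rightAdjoint_preservesLimits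
  haveI : PreservesColimitsOfSize.{0, 0} (EtCoh.pull i) := (EtCoh.pullPushAdj i).leftAdjoint_preservesColimits
  have hir : Set.range i = g ⁻¹' PrimeSpectrum.zeroLocus (I : Set A) := by
    rw [← hi', ← Scheme.Pullback.range_fst, ← sq.isoPullback_hom_fst, Scheme.Hom.comp_base, TopCat.coe_comp,
      Set.range_comp, Set.range_eq_univ.2 sq.isoPullback.hom.surjective, Set.image_univ]
  have hi0 : Set.range i' = (𝟙 (Spec (CommRingCat.of A)) : _ ⟶ _) ⁻¹' PrimeSpectrum.zeroLocus (I : Set A) := by
    simpa using hi'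
  let Φ := EtCoh.pull i ⋙ EtCoh.push i
  haveI : Φ.Additive := inferInstance
  have hleft : ∀ (M : EtCoh.Ab X), EtColimH.CAc M → ∀ n, Subsingleton (EtCoh.H X M (n + 1)) :=
    fun M hM n => subsingleton_H_of_cac hM n
  have hright : ∀ (M : EtCoh.Ab X), EtColimH.CAc M → EtCoh.IsTorsion M →
      ∀ n, Subsingleton (EtCoh.H X (Φ.obj M) (n + 1)) := fun M hM hMt n => by
    have hz : ∀ k, IsZero ((EtCoh.Rpush g (k + 1)).obj M) := fun k => EtColimH.isZero_rpush_of_cac g k M hM
    have hz0 : ∀ k, IsZero ((EtCoh.Rpush g₀ (k + 1)).obj ((EtCoh.pull i).obj M)) := fun k => by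
      haveI := EtPBC.isIso_bcQ_proper g i' g₀ i sq M (EtPBC.isLTorsion_univ_of_isTorsion hMt) (k + 1)
      haveI : PreservesColimitsOfSize.{0, 0} (EtCoh.pull i') := (EtCoh.pullPushAdj i').leftAdjoint_preservesColimits
      exact IsZero.of_iso (Functor.map_isZero (EtCoh.pull i') (hz k)) (asIso (EtBC.bcQ g i' g₀ i sq.w (k + 1) M)).symm
    refine (EtPBC.subsingleton_H_iff_push i _ (fun k => Groth.Agent.S3054.result i _ (k + 1) k.succ_pos) _).2 ?_
    refine (EtPBC.subsingleton_H_iff_push g₀ _ hz0 _).1 ?_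
    haveI := Groth.Agent.S0157.result g g₀ i i' sq M
    refine EtPBC.subsingleton_H_of_iso (asIso (EtCoh.baseChange0 g i' g₀ i sq.w M)) _ ?_
    refine (EtPBC.subsingleton_H_iff_push i' _ (fun k => Groth.Agent.S3054.result i' _ (k + 1) k.succ_pos) _).1 ?_
    have hb := GabAcyc.bijective_H_unit i' (fun G => bijective_unit_zero I (𝟙 _) i' hi0 G) ((EtCoh.push g).obj M)
      (EtLimit.isTorsion_push g hMt) (n + 1)
    have hs : Subsingleton (EtCoh.H _ ((EtCoh.push g).obj M) (n + 1)) :=
      (EtPBC.subsingleton_H_iff_push g M hz (n + 1)).2 (hleft M hM n)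
    exact ⟨fun x y => by
      obtain ⟨x, rfl⟩ := hb.2 x
      obtain ⟨y, rfl⟩ := hb.2 y
      exact congrArg _ (@Subsingleton.elim _ hs x y)⟩
  refine GabAcyc.bijective_ext_unit Φ (EtCoh.pullPushAdj i).unit (EtCoh.const X ℤ) EtCoh.IsTorsion
    (fun {A M} j _ _ hM => EtPBC.isTorsion_of_epi (cokernel.π j) hM) (fun A _ => ?_) (fun A hA n x => ?_)
    (fun A hA n y => ?_) q F hF
  · have h0 := bijective_unit_zero I g i hir A
    have hb : Function.Bijective fun ψ : EtCoh.const X ℤ ⟶ A => ψ ≫ (EtCoh.pullPushAdj i).unit.app A := by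
      refine ((EtMV.κ_bijective _).of_comp_iff' _).1 ?_
      exact h0.comp (EtMV.κ_bijective A)
    have he : (fun x : Ext (EtCoh.const X ℤ) A 0 => x.comp (Ext.mk₀ ((EtCoh.pullPushAdj i).unit.app A)) (add_zero 0)) ∘
        Ext.mk₀ = Ext.mk₀ ∘ fun ψ : EtCoh.const X ℤ ⟶ A => ψ ≫ (EtCoh.pullPushAdj i).unit.app A :=
      funext fun ψ => Ext.mk₀_comp_mk₀ _ _
    exact ((Ext.mk₀_bijective _ _).of_comp_iff _).1 (he ▸ (Ext.mk₀_bijective _ _).comp hb)
  · obtain ⟨M, j, hj, hc, hM⟩ := exists_hull A hA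
    exact ⟨M, j, hj, hM, @Subsingleton.elim _ (hleft M hc n) _ _⟩
  · obtain ⟨M, j, hj, hc, hM⟩ := exists_hull A hA
    exact ⟨M, j, hj, hM, @Subsingleton.elim _ (hright M hc hM n) _ _⟩

end Groth.Agent.HensCouple
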