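import Mathlib
import Groth.Agent.Hensel.Idempotent

/-!
# Henselian couples proper with connected fibres over an affine scheme give henselian pairs
-/

set_option autoImplicit false
set_option backward.isDefEq.respectTransparency false
set_option backward.isDefEq.respectTransparency.types false
set_option linter.style.haveILetI false

universe u

open CategoryTheory CategoryTheory.Limits AlgebraicGeometry

noncomputable section

namespace Groth.Agent.HensCouple

/-- clopens downstairs and upstairs agree along surjections with connected fibres -/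
theorem exists_clopen_descend {Y S : Type u} [TopologicalSpace Y] [TopologicalSpace S] {p : Y → S}
    (hcl : IsClosedMap p) (hsur : Function.Surjective p) (hconn : ∀ s, IsPreconnected (p ⁻¹' {s})) {U : Set Y}
    (hU : IsClopen U) : ∃ D : Set S, IsClopen D ∧ p ⁻¹' D = U := by
  have hsat : ∀ y y', p y = p y' → y ∈ U → y' ∈ U := fun y y' h hy =>
    (hconn (p y')).subset_isClopen hU ⟨y, h, hy⟩ rfl
  have he : (p '' U)ᶜ = p '' Uᶜ := by
    ext s
    refine ⟨fun h => ?_, ?_⟩
    · obtain ⟨y, rfl⟩ := hsur s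
      exact ⟨y, fun hy => h ⟨y, hy, rfl⟩, rfl⟩
    · rintro ⟨y, hy, rfl⟩ ⟨y', hy', h⟩
      exact hy (hsat y' y h hy')
  refine ⟨p '' U, ⟨hcl U hU.isClosed, isClosed_compl_iff.1 (he ▸ hcl _ hU.compl.isClosed)⟩, ?_⟩
  ext y
  exact ⟨fun ⟨y', hy', h⟩ => hsat y' y h hy', fun hy => ⟨y, hy, rfl⟩⟩

/-- unique extension of clopens from closed parts descends along surjections with connected fibres -/
theorem existsUnique_clopen {P Y S S₀ : Type u} [TopologicalSpace P] [TopologicalSpace Y] [TopologicalSpace S]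
    [TopologicalSpace S₀] {k : P → Y} {p : Y → S} {c : S₀ → S} (hk : Continuous k) (hp : Continuous p)
    (hc : Topology.IsClosedEmbedding c) (hcl : IsClosedMap p) (hsur : Function.Surjective p)
    (hconn : ∀ s, IsPreconnected (p ⁻¹' {s})) (hr : Set.range k = p ⁻¹' Set.range c)
    (hX : ∀ V : Set P, IsClopen V → ∃! U : Set Y, IsClopen U ∧ k ⁻¹' U = V) (C : Set S₀) (hC : IsClopen C) :
    ∃! D : Set S, IsClopen D ∧ c ⁻¹' D = C := by
  have hmem : ∀ x, p (k x) ∈ Set.range c := fun x => (hr.le ⟨x, rfl⟩ : k x ∈ p ⁻¹' Set.range c)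
  have hV : IsClopen (k ⁻¹' (p ⁻¹' (c '' C))) := by
    refine ⟨((hc.isClosedMap _ hC.isClosed).preimage hp).preimage hk, ?_⟩
    have : (k ⁻¹' (p ⁻¹' (c '' C)))ᶜ = k ⁻¹' (p ⁻¹' (c '' Cᶜ)) := by
      ext x
      obtain ⟨z, hz⟩ := hmem x
      simp only [Set.mem_compl_iff, Set.mem_preimage, ← hz, hc.injective.mem_set_image]
    rw [← isClosed_compl_iff, this]
    exact ((hc.isClosedMap _ hC.compl.isClosed).preimage hp).preimage hk
  obtain ⟨U, ⟨hU, hUV⟩, huniq⟩ := hX _ hV
  obtain ⟨D, hD, rfl⟩ := exists_clopen_descend hcl hsur hconn hU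
  refine ⟨D, ⟨hD, ?_⟩, fun D' ⟨hD', hDC⟩ => ?_⟩
  · ext z
    obtain ⟨y, hy⟩ := hsur (c z)
    obtain ⟨x, rfl⟩ := hr.ge (show y ∈ p ⁻¹' Set.range c from ⟨z, hy.symm⟩)
    have h := Set.ext_iff.1 hUV x
    simp only [Set.mem_preimage, hy, hc.injective.mem_set_image] at h
    exact h
  · refine Set.preimage_injective.2 hsur (huniq _ ⟨hD'.preimage hp, ?_⟩)
    ext x
    obtain ⟨z, hz⟩ := hmem x
    simp only [Set.mem_preimage, ← hz, hc.injective.mem_set_image, ← hDC]

/-- A proper morphism with geometrically connected fibres whose source forms a henselian couple has henselian base. -/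
theorem henselianRing_global {A : Type u} [CommRing A] (I : Ideal A) {X X₀ : Scheme.{u}}
    (g : X ⟶ Spec (CommRingCat.of A)) [IsProper g] [GeometricallyConnected g] (i : X₀ ⟶ X)
    (hi : Set.range i = g ⁻¹' PrimeSpectrum.zeroLocus (I : Set A))
    (hX : ∀ (Y : Scheme.{u}) (π : Y ⟶ X), IsFinite π →
      ∀ V : Set ↥(pullback π i), IsClopen V → ∃! U : Set ↥Y, IsClopen U ∧ (pullback.fst π i).base ⁻¹' U = V) :
    HenselianRing A I := by
  refine Hensel.henselianRing_of_idempotents fun B _ _ hB => ?_
  let J := I.map (algebraMap A B)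
  let b : Spec (CommRingCat.of B) ⟶ Spec (CommRingCat.of A) := Spec.map (CommRingCat.ofHom (algebraMap A B))
  haveI : IsFinite b := (IsFinite.SpecMap_iff _).mpr (RingHom.finite_algebraMap.mpr hB)
  haveI : IsFinite (pullback.fst g b) := MorphismProperty.pullback_fst _ _ inferInstance
  haveI : IsProper (pullback.snd g b) := MorphismProperty.pullback_snd _ _ inferInstance
  haveI : GeometricallyConnected (pullback.snd g b) := MorphismProperty.pullback_snd _ _ inferInstance
  let p := pullback.snd g b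
  let c : PrimeSpectrum (B ⧸ J) → PrimeSpectrum B := PrimeSpectrum.comap (Ideal.Quotient.mk J)
  have hc : Topology.IsClosedEmbedding c :=
    PrimeSpectrum.isClosedEmbedding_comap_of_surjective _ _ Ideal.Quotient.mk_surjective
  have hrc : Set.range c = PrimeSpectrum.zeroLocus (J : Set B) := by
    rw [range_comap_of_surjective _ _ Ideal.Quotient.mk_surjective, Ideal.mk_ker]
  have hr : Set.range (pullback.fst (pullback.fst g b) i) = p ⁻¹' Set.range c := by
    rw [Scheme.Pullback.range_fst, hi, hrc]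
    ext y
    have hy : g (pullback.fst g b y) = b (p y) :=
      congrArg (fun m : pullback g b ⟶ Spec (CommRingCat.of A) => m y) pullback.condition
    show g (pullback.fst g b y) ∈ PrimeSpectrum.zeroLocus (I : Set A) ↔ p y ∈ PrimeSpectrum.zeroLocus (J : Set B)
    rw [hy]
    show PrimeSpectrum.comap (algebraMap A B) (p y) ∈ _ ↔ _
    rw [← Set.mem_preimage, PrimeSpectrum.preimage_comap_zeroLocus, ← PrimeSpectrum.zeroLocus_span]
    rfl
  have key := existsUnique_clopen (pullback.fst (pullback.fst g b) i).continuous p.continuous hc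
    p.isClosedMap p.surjective (fun s => (p.isConnected_preimage_singleton s).isPreconnected) hr
    (hX _ (pullback.fst g b) inferInstance)
  have hpre : ∀ e : B, c ⁻¹' (PrimeSpectrum.basicOpen e : Set (PrimeSpectrum B)) =
      (PrimeSpectrum.basicOpen (Ideal.Quotient.mk J e) : Set (PrimeSpectrum (B ⧸ J))) := fun e => rfl
  refine ⟨fun e he => he.map _, fun e he f hf hef => ?_, fun z hz => ?_⟩
  · refine PrimeSpectrum.basicOpen_injOn_isIdempotentElem he hf (SetLike.ext' ?_)
    refine (key _ ((PrimeSpectrum.isClopen_basicOpen_of_mul_add (Ideal.Quotient.mk J e) (1 - Ideal.Quotient.mk J e)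
      (he.map _).mul_one_sub_self (add_sub_cancel _ _)))).unique ⟨?_, hpre e⟩ ⟨?_, (hpre f).trans (by rw [← hef])⟩
    · exact PrimeSpectrum.isClopen_basicOpen_of_mul_add e (1 - e) he.mul_one_sub_self (add_sub_cancel _ _)
    · exact PrimeSpectrum.isClopen_basicOpen_of_mul_add f (1 - f) hf.mul_one_sub_self (add_sub_cancel _ _)
  · obtain ⟨D, hD, hDz⟩ := (key _ (PrimeSpectrum.isClopen_basicOpen_of_mul_add z (1 - z)
      hz.mul_one_sub_self (add_sub_cancel _ _))).exists
    obtain ⟨e, ⟨he, heD⟩, -⟩ := PrimeSpectrum.existsUnique_idempotent_basicOpen_eq_of_isClopen hD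
    refine ⟨e, he, PrimeSpectrum.basicOpen_injOn_isIdempotentElem (he.map _) hz (SetLike.ext' ?_)⟩
    rw [← hpre, ← heD, hDz]

end Groth.Agent.HensCouple
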