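import Groth.Agent.HensCouple.Global
import Groth.Agent.HensCouple.ProperPair
import Groth.Agent.RadSections.Main

/-!
# Proper henselian couples
-/

set_option autoImplicit false
set_option backward.isDefEq.respectTransparency false
set_option backward.isDefEq.respectTransparency.types false
set_option linter.style.haveILetI false

universe u

open CategoryTheory CategoryTheory.Limits AlgebraicGeometry

noncomputable section

namespace Groth.Agent.HensCouple

theorem bijective_H_unit_couple (A : Type u) [CommRing A] (I : Ideal A) {X : Scheme.{u}}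
    (f : X ⟶ Spec (CommRingCat.of A)) [IsProper f]
    (hX : ∀ (Y : Scheme.{u}) (g : Y ⟶ X), IsFinite g →
      ∀ V : Set ↥(pullback g (pullback.fst f (Spec.map (CommRingCat.ofHom (Ideal.Quotient.mk I))))), IsClopen V →
        ∃! U : Set ↥Y, IsClopen U ∧ (pullback.fst g (pullback.fst f (Spec.map (CommRingCat.ofHom (Ideal.Quotient.mk I))))).base ⁻¹' U = V)
    (F : EtCoh.Ab X) (hF : EtCoh.IsTorsion F) (q : ℕ) :
    Function.Bijective
      (Sheaf.H.map ((EtCoh.pullPushAdj (pullback.fst f (Spec.map (CommRingCat.ofHom (Ideal.Quotient.mk I))))).unit.app F) q) := by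
  let S := Spec (CommRingCat.of A)
  let s := Spec.map (CommRingCat.ofHom (Ideal.Quotient.mk I))
  haveI : IsClosedImmersion s := IsClosedImmersion.spec_of_surjective _ Ideal.Quotient.mk_surjective
  obtain ⟨_, _, _⟩ := RadSections.stein_toSpecΓ f
  let φ : CommRingCat.of A ⟶ Γ(X, ⊤) := (Scheme.ΓSpecIso (CommRingCat.of A)).inv ≫ f.appTop
  let g : X ⟶ Spec (CommRingCat.of Γ(X, ⊤)) := X.toSpecΓ
  haveI : IsProper g := ‹IsProper X.toSpecΓ›
  haveI : GeometricallyConnected g := ‹GeometricallyConnected X.toSpecΓ›
  let h : Spec (CommRingCat.of Γ(X, ⊤)) ⟶ S := Spec.map φ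
  have hf : g ≫ h = f := by
    simp only [g, h, φ, Spec.map_comp]
    rw [← Scheme.toSpecΓ_naturality_assoc]
    simp [S]
  let I' : Ideal Γ(X, ⊤) := I.map φ.hom
  have hz : PrimeSpectrum.zeroLocus (I' : Set Γ(X, ⊤)) = h ⁻¹' Set.range s := by
    have hs : Set.range s = PrimeSpectrum.zeroLocus (I : Set A) := by
      refine (range_comap_of_surjective _ _ Ideal.Quotient.mk_surjective).trans ?_
      rw [Ideal.mk_ker]
    rw [hs]
    refine Eq.trans ?_ (PrimeSpectrum.preimage_comap_zeroLocus φ.hom (I : Set A)).symm
    exact PrimeSpectrum.zeroLocus_span _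
  let i := pullback.fst f s
  haveI : IsClosedImmersion i := MorphismProperty.pullback_fst _ _ inferInstance
  have hi : Set.range i = g ⁻¹' PrimeSpectrum.zeroLocus (I' : Set Γ(X, ⊤)) := by
    rw [hz, Scheme.Pullback.range_fst, ← hf]
    rfl
  haveI : HenselianRing Γ(X, ⊤) I' := henselianRing_global I' g i hi hX
  haveI : IsClosedImmersion (pullback.fst h s) := MorphismProperty.pullback_fst _ _ inferInstance
  let g₀ : pullback f s ⟶ pullback h s := pullback.lift (i ≫ g) (pullback.snd f s)
    (by rw [Category.assoc, hf]; exact pullback.condition)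
  have sq : IsPullback i g₀ g (pullback.fst h s) := by
    refine IsPullback.of_bot ?_ (pullback.lift_fst _ _ _).symm (IsPullback.of_hasPullback h s)
    rw [pullback.lift_snd, hf]
    exact IsPullback.of_hasPullback f s
  exact bijective_H_unit_proper I' g (pullback.fst h s) (by rw [Scheme.Pullback.range_fst, ← hz]) i g₀ sq F hF q

end Groth.Agent.HensCouple
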